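import Mathlib

/-!
# Invariants of a finite group commute with flat base change (helper3)

`tensor_inv`: for `R → A` with `A^G = R` and `B` flat over `R`, the invariants of `B ⊗[R] A` under
`id ⊗ σ` are `B`.  `po_inv`: the same for an abstract pushout square of commutative rings.
-/

set_option autoImplicit false
universe u
open TensorProduct CategoryTheory CategoryTheory.Limits

namespace Groth.Agent.H3.CAQ

section Tensor

variable {R : Type u} [CommRing R] {A : Type u} [CommRing A] [Algebra R A]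
  {B : Type u} [CommRing B] [Algebra R B]
  {G : Type*} [Fintype G] [DecidableEq G]

/-- the difference map `a ↦ (σ γ a - a)_γ` -/
noncomputable def delta (σ : G → (A →ₗ[R] A)) : A →ₗ[R] (G → A) :=
  LinearMap.pi (fun γ => σ γ - LinearMap.id)

omit [Fintype G] [DecidableEq G] in
lemma delta_apply (σ : G → (A →ₗ[R] A)) (a : A) (γ : G) : delta σ a γ = σ γ a - a := rfl

omit [Fintype G] [DecidableEq G] in
lemma exact_delta (σ : G → (A →ₗ[R] A))
    (hinv : ∀ a : A, (∀ γ, σ γ a = a) → a ∈ Set.range (algebraMap R A))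
    (hfix : ∀ γ (r : R), σ γ (algebraMap R A r) = algebraMap R A r) :
    Function.Exact (Algebra.linearMap R A) (delta σ) := by
  intro a
  constructor
  · intro h
    apply hinv
    intro γ
    have h1 := congrFun h γ
    rw [delta_apply] at h1
    exact sub_eq_zero.1 h1
  · rintro ⟨r, rfl⟩
    funext γ
    rw [delta_apply, Algebra.linearMap_apply, hfix, sub_self]
    rfl

theorem tensor_inv [Module.Flat R B] (σ : G → (A →ₗ[R] A))
    (hinv : ∀ a : A, (∀ γ, σ γ a = a) → a ∈ Set.range (algebraMap R A))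
    (hfix : ∀ γ (r : R), σ γ (algebraMap R A r) = algebraMap R A r)
    (τ : B ⊗[R] A) (hτ : ∀ γ, (σ γ).lTensor B τ = τ) :
    ∃ y : B, τ = y ⊗ₜ[R] (1 : A) := by
  have hex := Module.Flat.lTensor_exact B (exact_delta σ hinv hfix)
  have key : ∀ (t : B ⊗[R] A) (γ : G), (TensorProduct.piRight R R B (fun _ : G => A))
      ((delta σ).lTensor B t) γ = (σ γ).lTensor B t - t := by
    intro t γ
    induction t using TensorProduct.induction_on with
    | zero => simp
    | tmul b a =>
      rw [LinearMap.lTensor_tmul, TensorProduct.piRight_apply, TensorProduct.piRightHom_tmul,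
        LinearMap.lTensor_tmul]
      change b ⊗ₜ[R] (delta σ a γ) = _
      rw [delta_apply, TensorProduct.tmul_sub]
    | add x y hx hy =>
      rw [map_add, map_add, Pi.add_apply, hx, hy, map_add]
      abel
  have hz : (delta σ).lTensor B τ = 0 := by
    apply (TensorProduct.piRight R R B (fun _ : G => A)).injective
    rw [map_zero]
    funext γ
    rw [key, hτ, sub_self]
    rfl
  obtain ⟨w, hw⟩ := (hex τ).1 hz
  refine ⟨TensorProduct.rid R B w, ?_⟩
  rw [← hw]
  conv_lhs => rw [← (TensorProduct.rid R B).symm_apply_apply w]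
  rw [TensorProduct.rid_symm_apply, LinearMap.lTensor_tmul, Algebra.linearMap_apply, map_one]

end Tensor

section Pushout

variable {R A' B P : CommRingCat.{u}} {f₁ : R ⟶ A'} {f₂ : R ⟶ B} {i₁ : A' ⟶ P} {i₂ : B ⟶ P}

/-- invariants commute with flat base change, for an abstract pushout square of rings -/
theorem po_inv (sq : IsPushout f₁ f₂ i₁ i₂) (hflat : f₂.hom.Flat)
    {G : Type*} [Fintype G] [DecidableEq G]
    (σ : G → (A' ⟶ A')) (hσ : ∀ γ, f₁ ≫ σ γ = f₁)
    (hinv : ∀ a : A', (∀ γ, (σ γ).hom a = a) → a ∈ Set.range f₁.hom)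
    (hinj : Function.Injective f₁.hom)
    (θ : G → (P ⟶ P)) (hθ₁ : ∀ γ, i₁ ≫ θ γ = σ γ ≫ i₁) (hθ₂ : ∀ γ, i₂ ≫ θ γ = i₂) :
    Function.Injective i₂.hom ∧
      ∀ t : P, (∀ γ, (θ γ).hom t = t) → ∃ y : B, i₂.hom y = t := by
  letI : Algebra R A' := f₁.hom.toAlgebra
  letI : Algebra R B := f₂.hom.toAlgebra
  haveI : Module.Flat R B := hflat
  have h' : IsPushout f₂ f₁
      (CommRingCat.ofHom (Algebra.TensorProduct.includeLeftRingHom (R := R) (A := B) (B := A')))
      (CommRingCat.ofHom (Algebra.TensorProduct.includeRight (R := R) (A := B) (B := A')).toRingHom) :=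
    IsPushout.of_isColimit (CommRingCat.pushoutCoconeIsColimit R B A')
  obtain ⟨e, he⟩ : ∃ e : P ≅ CommRingCat.of (B ⊗[R] A'), e = sq.flip.isoIsPushout _ _ h' := ⟨_, rfl⟩
  have e₂ : ∀ y : B, e.hom.hom (i₂.hom y) = y ⊗ₜ[R] (1 : A') := by
    intro y
    have := congrArg (fun k => k.hom y) (sq.flip.inl_isoIsPushout_hom _ _ h')
    rw [← he] at this
    exact this
  have e₁ : ∀ a : A', e.hom.hom (i₁.hom a) = (1 : B) ⊗ₜ[R] a := by
    intro a
    have := congrArg (fun k => k.hom a) (sq.flip.inr_isoIsPushout_hom _ _ h')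
    rw [← he] at this
    exact this
  have einj : Function.Injective e.hom.hom := by
    intro x y hxy
    have h1 := congrArg (fun z => e.inv.hom z) hxy
    have h2 : ∀ z : P, e.inv.hom (e.hom.hom z) = z := fun z => by
      have := congrArg (fun k => k.hom z) e.hom_inv_id
      exact this
    simpa [h2] using h1
  -- the action as linear maps
  have hσr : ∀ γ (r : R), (σ γ).hom (algebraMap R A' r) = algebraMap R A' r := by
    intro γ r
    have := congrArg (fun k => k.hom r) (hσ γ)
    exact this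
  obtain ⟨σl, hσl⟩ : ∃ σl : G → (A' →ₗ[R] A'), ∀ γ a, σl γ a = (σ γ).hom a := by
    refine ⟨fun γ => { toFun := (σ γ).hom, map_add' := map_add _, map_smul' := ?_ }, fun _ _ => rfl⟩
    intro r a
    simp only [Algebra.smul_def, map_mul, RingHom.id_apply]
    rw [hσr]
  -- equivariance of `e`
  have heq : ∀ γ (t : P), e.hom.hom ((θ γ).hom t) = (σl γ).lTensor B (e.hom.hom t) := by
    intro γ
    obtain ⟨ψ, hψ⟩ : ∃ ψ : B ⊗[R] A' →+* B ⊗[R] A',
        ∀ z, ψ z = (σl γ).lTensor B z := by
      obtain ⟨σa, hσa⟩ : ∃ σa : A' →ₐ[R] A', ∀ a, σa a = (σ γ).hom a :=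
        ⟨{ (σ γ).hom with commutes' := hσr γ }, fun _ => rfl⟩
      refine ⟨(Algebra.TensorProduct.map (AlgHom.id R B) σa).toRingHom, fun z => ?_⟩
      induction z using TensorProduct.induction_on with
      | zero => simp
      | tmul b a =>
        change (Algebra.TensorProduct.map (AlgHom.id R B) σa) (b ⊗ₜ a) = _
        rw [Algebra.TensorProduct.map_tmul, LinearMap.lTensor_tmul, hσl, hσa]
        rfl
      | add x y hx hy => rw [map_add, map_add, hx, hy]
    have hcomp : θ γ ≫ e.hom = e.hom ≫ CommRingCat.ofHom ψ := by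
      apply sq.flip.hom_ext
      · ext y
        change e.hom.hom ((θ γ).hom (i₂.hom y)) = ψ (e.hom.hom (i₂.hom y))
        have h1 : (θ γ).hom (i₂.hom y) = i₂.hom y := congrArg (fun k => k.hom y) (hθ₂ γ)
        rw [h1, e₂, hψ, LinearMap.lTensor_tmul, hσl, map_one]
      · ext a
        change e.hom.hom ((θ γ).hom (i₁.hom a)) = ψ (e.hom.hom (i₁.hom a))
        have h1 : (θ γ).hom (i₁.hom a) = i₁.hom ((σ γ).hom a) :=
          congrArg (fun k => k.hom a) (hθ₁ γ)
        rw [h1, e₁, e₁, hψ, LinearMap.lTensor_tmul, hσl]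
    intro t
    have := congrArg (fun k => k.hom t) hcomp
    exact this.trans (hψ _)
  refine ⟨?_, ?_⟩
  · intro y y' hyy
    have h1 : y ⊗ₜ[R] (1 : A') = y' ⊗ₜ[R] (1 : A') := by rw [← e₂, ← e₂, hyy]
    exact Algebra.TensorProduct.includeLeft_injective (R := R) (S := R) (A := B) (B := A') hinj h1
  · intro t ht
    obtain ⟨y, hy⟩ := tensor_inv (R := R) (A := A') (B := B) σl
      (fun a ha => hinv a (fun γ => (hσl γ a).symm.trans (ha γ)))
      (fun γ r => (hσl γ _).trans (hσr γ r)) (e.hom.hom t)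
      (fun γ => by rw [← heq, ht])
    exact ⟨y, einj ((e₂ y).trans hy.symm)⟩

end Pushout

end Groth.Agent.H3.CAQ
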