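import Mathlib
import Groth.Agent.Lib.Helper3.AlgSt.Points.Univ
import Groth.Agent.Lib.Helper3.UnivInj

/-!
# A criterion for a 1-morphism of algebraic stacks to be a universal homeomorphism (helper3)

If `fX : 𝒰 ⟶ 𝒳` is surjective (representably), `fX ≫ π` is universally open and surjective
(representably) and `π` is universally injective, then `π` is a universal homeomorphism.
-/

set_option autoImplicit false
universe u
open CategoryTheory CategoryTheory.Functor CategoryTheory.Limits Opposite AlgebraicGeometry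

namespace Groth.Agent.H3.CAQ

open Groth.Agent.H3.FibCatAux Groth.Agent.H3.FpCalc Groth.Agent.H3.AlgStAux
  Groth.Agent.H3.AlgStPoints Groth.Agent.H3.FPtRel

variable {S : Scheme.{u}} {𝒳 𝒴 𝒰 : AlgSt.Cat S}

lemma pasteR_comp_fpFst {𝒵 : AlgSt.Cat S} (g : 𝒵 ⥤ᵇ 𝒴) (π : 𝒳 ⥤ᵇ 𝒴) (fX : 𝒰 ⥤ᵇ 𝒳) :
    BasedFunctor.comp (pasteR g π fX) (FibCat.fpFst g (BasedFunctor.comp fX π)) =
      BasedFunctor.comp (FibCat.fpFst (FibCat.fpSnd g π) fX) (FibCat.fpFst g π) := by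
  apply basedFunctor_ext; rfl

theorem isUnivHomeo_of_atlas
    (h𝒳 : AlgSt.IsAlgStack Scheme.fppfPrecoverage 𝒳)
    (h𝒴 : AlgSt.IsAlgStack Scheme.fppfPrecoverage 𝒴)
    (h𝒰 : AlgSt.IsAlgStack Scheme.fppfPrecoverage 𝒰)
    (π : 𝒳 ⥤ᵇ 𝒴) (fX : 𝒰 ⥤ᵇ 𝒳)
    (hs : AlgSt.RepByAlgSpWith AlgSp.IsSurjectiveMor fX)
    (hρo : AlgSt.RepByAlgSpWith (AlgSp.UnivSp (QSp (fun _ _ _ _ f => IsOpenMap f)))
      (BasedFunctor.comp fX π))
    (hρs : AlgSt.RepByAlgSpWith AlgSp.IsSurjectiveMor (BasedFunctor.comp fX π))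
    (hinj : AlgSt.IsUnivInjective Scheme.fppfPrecoverage π) :
    AlgSt.IsUnivHomeo Scheme.fppfPrecoverage π := by
  intro 𝒵 h𝒵 g
  have hP : AlgSt.IsAlgStack Scheme.fppfPrecoverage (FibCat.fp g π) :=
    AlgStAlgebraic.isAlgStack_fp h𝒴.isStack h𝒴.diag h𝒵 h𝒳 g π
  have hQ : AlgSt.IsAlgStack Scheme.fppfPrecoverage (FibCat.fp g (BasedFunctor.comp fX π)) :=
    AlgStAlgebraic.isAlgStack_fp h𝒴.isStack h𝒴.diag h𝒵 h𝒰 g (BasedFunctor.comp fX π)
  have hP₁ : AlgSt.IsAlgStack Scheme.fppfPrecoverage (FibCat.fp (FibCat.fpSnd g π) fX) :=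
    AlgStAlgebraic.isAlgStack_fp h𝒳.isStack h𝒳.diag hP h𝒰 (FibCat.fpSnd g π) fX
  have hopen : IsOpenMap (AlgSt.Points.map (FibCat.fpFst g (BasedFunctor.comp fX π))) :=
    qt_of_rep topDesc_isOpenMap hQ h𝒵 (FibCat.fpFst g (BasedFunctor.comp fX π))
      (repByAlgSpWith_fpFst _ (BasedFunctor.comp fX π) g hρo)
  have hsurjρ : Function.Surjective
      (AlgSt.Points.map (FibCat.fpFst g (BasedFunctor.comp fX π))) :=
    isSurjective_of_rep h𝒵.isStack.1 _ (repByAlgSpWith_fpFst _ (BasedFunctor.comp fX π) g hρs)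
  have hE := isHomeomorph_of_isEquivOver hP₁ hQ (pasteR g π fX) (isEquivOver_pasteR g π fX)
  have hsurj₁ : Function.Surjective (AlgSt.Points.map (FibCat.fpFst (FibCat.fpSnd g π) fX)) :=
    isSurjective_of_rep hP.isStack.1 _ (repByAlgSpWith_fpFst _ fX (FibCat.fpSnd g π) hs)
  have hcont₁ : Continuous (AlgSt.Points.map (FibCat.fpFst (FibCat.fpSnd g π) fX)) :=
    continuous_points_map hP _
  have hcomp : ∀ w, AlgSt.Points.map (FibCat.fpFst g π)
      (AlgSt.Points.map (FibCat.fpFst (FibCat.fpSnd g π) fX) w) =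
      AlgSt.Points.map (FibCat.fpFst g (BasedFunctor.comp fX π))
        (AlgSt.Points.map (pasteR g π fX) w) := by
    intro w
    rw [← points_map_comp, ← points_map_comp, pasteR_comp_fpFst]
  refine ⟨continuous_points_map h𝒵 _, ?_, hinj 𝒵 h𝒵 g, ?_⟩
  · intro W hW
    have h1 : AlgSt.Points.map (FibCat.fpFst g π) '' W =
        AlgSt.Points.map (FibCat.fpFst g (BasedFunctor.comp fX π)) ''
          (AlgSt.Points.map (pasteR g π fX) ''
            (AlgSt.Points.map (FibCat.fpFst (FibCat.fpSnd g π) fX) ⁻¹' W)) := by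
      ext z
      constructor
      · rintro ⟨w, hw, rfl⟩
        obtain ⟨w₁, rfl⟩ := hsurj₁ w
        exact ⟨_, ⟨w₁, hw, rfl⟩, (hcomp w₁).symm⟩
      · rintro ⟨_, ⟨w₁, hw₁, rfl⟩, rfl⟩
        exact ⟨_, hw₁, hcomp w₁⟩
    rw [h1]
    exact hopen _ (hE.isOpenMap _ (hW.preimage hcont₁))
  · intro z
    obtain ⟨v, hv⟩ := hsurjρ z
    obtain ⟨w₁, rfl⟩ := hE.surjective v
    exact ⟨_, (hcomp w₁).trans hv⟩

end Groth.Agent.H3.CAQ
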