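import Mathlib
import Groth.Agent.Lib.Helper3.CAQ.Alg

/-!
# Invariant functions on a flat base change of a finite quotient (helper3)

For `q : X ⟶ Y0` a morphism of affine schemes with a finite group acting on `X` over `Y0` such that
`Γ(Y0) = Γ(X)^G`, and `E ⟶ Y0` flat with `P = X ×_{Y0} E`: `Γ(E) → Γ(P)` is injective with image
the `G`-invariant functions.
-/

set_option autoImplicit false
universe u
open CategoryTheory CategoryTheory.Limits AlgebraicGeometry Opposite TopologicalSpace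

namespace Groth.Agent.H3.CAQ

lemma appLE_top {X Y : Scheme.{u}} (f : X ⟶ Y) (e : (⊤ : X.Opens) ≤ f ⁻¹ᵁ ⊤) :
    f.appLE ⊤ ⊤ e = f.appTop := f.appLE_eq_app

lemma appLE_congr_hom {X Y : Scheme.{u}} {f g : X ⟶ Y} (h : f = g) (U : Y.Opens) (V : X.Opens)
    (e : V ≤ f ⁻¹ᵁ U) : f.appLE U V e = g.appLE U V (h ▸ e) := by
  subst h; rfl

lemma res_res (Z : Scheme.{u}) {U V W : Z.Opens} (h₁ : V ≤ U) (h₂ : W ≤ V) (s : Γ(Z, U)) :
    (Z.presheaf.map (homOfLE h₂).op).hom ((Z.presheaf.map (homOfLE h₁).op).hom s) =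
      (Z.presheaf.map (homOfLE (h₂.trans h₁)).op).hom s := by
  rw [← CommRingCat.comp_apply, ← Functor.map_comp]
  rfl

/-- sections agreeing on a family of opens covering `U` are equal -/
lemma sec_ext {Z : Scheme.{u}} {ι : Type*} (U : Z.Opens) (Ui : ι → Z.Opens)
    (hle : ∀ i, Ui i ≤ U) (hcov : U ≤ iSup Ui) (s t : Γ(Z, U))
    (h : ∀ i, (Z.presheaf.map (homOfLE (hle i)).op).hom s =
      (Z.presheaf.map (homOfLE (hle i)).op).hom t) : s = t :=
  TopCat.Sheaf.eq_of_locally_eq' Z.sheaf Ui U (fun i => homOfLE (hle i)) hcov s t h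

lemma le_iSup_affine (Z : Scheme.{u}) (U : Z.Opens) :
    U ≤ iSup (fun i : {V : Z.affineOpens // V.1 ≤ U} => i.1.1) := by
  intro x hx
  obtain ⟨U', hU', hxU', hle⟩ := Opens.isBasis_iff_nbhd.mp Z.isBasis_affineOpens hx
  exact Opens.mem_iSup.mpr ⟨⟨⟨U', hU'⟩, hle⟩, hxU'⟩

/-- gluing sections given on the basis of affine opens -/
lemma glue_affine {Z : Scheme.{u}} (y : ∀ V : Z.affineOpens, Γ(Z, V.1))
    (hy : ∀ (V V' : Z.affineOpens) (h : V'.1 ≤ V.1),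
      (Z.presheaf.map (homOfLE h).op).hom (y V) = y V') :
    ∃ r : Γ(Z, ⊤), ∀ V : Z.affineOpens,
      (Z.presheaf.map (homOfLE (le_top : V.1 ≤ ⊤)).op).hom r = y V := by
  have hc : TopCat.Presheaf.IsCompatible Z.sheaf.1 (fun V : Z.affineOpens => V.1) y := by
    intro V V'
    refine sec_ext (V.1 ⊓ V'.1) (fun i : {W : Z.affineOpens // W.1 ≤ V.1 ⊓ V'.1} => i.1.1)
      (fun i => i.2) (le_iSup_affine Z _) _ _ ?_
    intro i
    have e1 := res_res Z (inf_le_left : V.1 ⊓ V'.1 ≤ V.1) i.2 (y V)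
    have e2 := res_res Z (inf_le_right : V.1 ⊓ V'.1 ≤ V'.1) i.2 (y V')
    exact e1.trans ((hy V i.1 _).trans ((hy V' i.1 _).symm.trans e2.symm))
  obtain ⟨r, hr, -⟩ := TopCat.Sheaf.existsUnique_gluing' Z.sheaf (fun V : Z.affineOpens => V.1) ⊤
    (fun V => homOfLE le_top) (le_of_eq (iSup_affineOpens_eq_top Z).symm) y hc
  exact ⟨r, hr⟩

section

variable {X Y0 E P : Scheme.{u}} [IsAffine X] [IsAffine Y0] {q : X ⟶ Y0} {gE : E ⟶ Y0} [Flat gE]
  {pX : P ⟶ X} {p : P ⟶ E} (H : IsPullback pX p q gE)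
  {G : Type*} [Fintype G] [DecidableEq G] (σ : G → (X ⟶ X)) (hσ : ∀ γ, σ γ ≫ q = q)
  (hinj : Function.Injective q.appTop.hom)
  (hinv : ∀ a : Γ(X, ⊤), (∀ γ, (σ γ).appTop.hom a = a) → a ∈ Set.range q.appTop.hom)
  (θ : G → (P ⟶ P)) (hθp : ∀ γ, θ γ ≫ p = p) (hθX : ∀ γ, θ γ ≫ pX = pX ≫ σ γ)

/-- the preimage in `P` of an open of `E` -/
def WW (pX : P ⟶ X) (p : P ⟶ E) (V : E.Opens) : P.Opens := pX ⁻¹ᵁ ⊤ ⊓ p ⁻¹ᵁ V

omit [IsAffine X] in
lemma WW_le (V : E.Opens) : WW pX p V ≤ p ⁻¹ᵁ V := inf_le_right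

omit [IsAffine X] in
lemma WW_mono {V V' : E.Opens} (h : V' ≤ V) : WW pX p V' ≤ WW pX p V :=
  fun _ hx => ⟨hx.1, h hx.2⟩

omit [IsAffine X] [Fintype G] [DecidableEq G] in
include hθp in
lemma WW_stable (γ : G) (V : E.Opens) : WW pX p V ≤ θ γ ⁻¹ᵁ WW pX p V := by
  intro x hx
  refine ⟨trivial, ?_⟩
  change p (θ γ x) ∈ V
  rw [← Scheme.Hom.comp_apply, hθp]
  exact hx.2

lemma res_appLE {Z Z' : Scheme.{u}} (f : Z ⟶ Z') (V : Z'.Opens) (W : Z.Opens) (e : W ≤ f ⁻¹ᵁ V)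
    (r : Γ(Z', ⊤)) :
    (f.appLE V W e).hom ((Z'.presheaf.map (homOfLE (le_top : V ≤ ⊤)).op).hom r) =
      (Z.presheaf.map (homOfLE (le_top : W ≤ ⊤)).op).hom (f.appTop.hom r) := by
  have h1 : Z'.presheaf.map (homOfLE (le_top : V ≤ ⊤)).op ≫ f.appLE V W e =
      f.appLE ⊤ W (by simp) := Scheme.Hom.map_appLE f e (homOfLE le_top).op
  have h2 : f.appTop ≫ Z.presheaf.map (homOfLE (le_top : W ≤ ⊤)).op = f.appLE ⊤ W (by simp) := by
    rw [← appLE_top f (by simp)]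
    exact Scheme.Hom.appLE_map f _ (homOfLE le_top).op
  have := congrArg (fun k => k.hom r) (h1.trans h2.symm)
  exact this

include H hσ hinj hinv hθp hθX in
theorem local_inv (V : E.Opens) (hV : IsAffineOpen V) :
    Function.Injective (p.appLE V (WW pX p V) (WW_le V)).hom ∧
    ∀ t : Γ(P, WW pX p V),
      (∀ γ, ((θ γ).appLE (WW pX p V) (WW pX p V) (WW_stable θ hθp γ V)).hom t = t) →
      ∃ y : Γ(E, V), (p.appLE V (WW pX p V) (WW_le V)).hom y = t := by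
  have hUST : V ≤ gE ⁻¹ᵁ ⊤ := by simp
  have hUSX : (⊤ : X.Opens) ≤ q ⁻¹ᵁ ⊤ := by simp
  have sq := (isIso_pushoutSection_iff H hUST hUSX (UY := WW pX p V) rfl).1
    (isIso_pushoutSection_of_isAffineOpen H hUST hUSX rfl (isAffineOpen_top Y0) hV
      (isAffineOpen_top X))
  rw [appLE_top] at sq
  refine po_inv sq (gE.flat_appLE (isAffineOpen_top Y0) hV hUST) (fun γ => (σ γ).appTop) ?_ hinv
    hinj (fun γ => (θ γ).appLE (WW pX p V) (WW pX p V) (WW_stable θ hθp γ V)) ?_ ?_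
  · intro γ
    rw [← Scheme.Hom.comp_appTop, hσ]
  · intro γ
    rw [Scheme.Hom.appLE_comp_appLE]
    refine (appLE_congr_hom (hθX γ) _ _ _).trans ?_
    exact Scheme.Hom.comp_appLE _ _ _ _ _
  · intro γ
    rw [Scheme.Hom.appLE_comp_appLE]
    exact appLE_congr_hom (hθp γ) _ _ _

include H hσ hinj hinv hθp hθX in
theorem inj_appTop : Function.Injective p.appTop.hom := by
  intro r r' h
  refine sec_ext ⊤ (fun V : E.affineOpens => V.1) (fun _ => le_top)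
    (le_of_eq (iSup_affineOpens_eq_top E).symm) r r' ?_
  intro V
  apply (local_inv H σ hσ hinj hinv θ hθp hθX V.1 V.2).1
  exact (res_appLE p V.1 _ _ r).trans ((congrArg _ h).trans (res_appLE p V.1 _ _ r').symm)

include H hσ hinj hinv hθp hθX in
theorem exists_of_invariant (t : Γ(P, ⊤)) (ht : ∀ γ, (θ γ).appTop.hom t = t) :
    ∃ r : Γ(E, ⊤), p.appTop.hom r = t := by
  have hloc : ∀ V : E.affineOpens, ∃ y : Γ(E, V.1),
      (p.appLE V.1 (WW pX p V.1) (WW_le V.1)).hom y =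
        (P.presheaf.map (homOfLE (le_top : WW pX p V.1 ≤ ⊤)).op).hom t := by
    intro V
    apply (local_inv H σ hσ hinj hinv θ hθp hθX V.1 V.2).2
    intro γ
    rw [res_appLE (θ γ) (WW pX p V.1) (WW pX p V.1) (WW_stable θ hθp γ V.1) t, ht]
  choose y hy using hloc
  have hcompat : ∀ (V V' : E.affineOpens) (h : V'.1 ≤ V.1),
      (E.presheaf.map (homOfLE h).op).hom (y V) = y V' := by
    intro V V' h
    apply (local_inv H σ hσ hinj hinv θ hθp hθX V'.1 V'.2).1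
    rw [hy V']
    have hWW : WW pX p V'.1 ≤ WW pX p V.1 := WW_mono h
    have h1 : E.presheaf.map (homOfLE h).op ≫ p.appLE V'.1 (WW pX p V'.1) (WW_le V'.1) =
        p.appLE V.1 (WW pX p V'.1) (hWW.trans (WW_le V.1)) :=
      Scheme.Hom.map_appLE p _ (homOfLE h).op
    have h2 : p.appLE V.1 (WW pX p V.1) (WW_le V.1) ≫ P.presheaf.map (homOfLE hWW).op =
        p.appLE V.1 (WW pX p V'.1) (hWW.trans (WW_le V.1)) :=
      Scheme.Hom.appLE_map p _ (homOfLE hWW).op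
    have h3 := congrArg (fun k => k.hom (y V)) (h1.trans h2.symm)
    refine h3.trans ?_
    change (P.presheaf.map (homOfLE hWW).op).hom
      ((p.appLE V.1 (WW pX p V.1) (WW_le V.1)).hom (y V)) = _
    rw [hy V]
    exact res_res P _ _ t
  obtain ⟨r, hr⟩ := glue_affine y hcompat
  refine ⟨r, ?_⟩
  refine sec_ext ⊤ (fun V : E.affineOpens => WW pX p V.1) (fun _ => le_top) ?_ _ _ ?_
  · intro x _
    obtain ⟨U', hU', hxU', -⟩ := Opens.isBasis_iff_nbhd.mp E.isBasis_affineOpens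
      (show p x ∈ (⊤ : E.Opens) from trivial)
    exact Opens.mem_iSup.mpr ⟨⟨U', hU'⟩, ⟨trivial, hxU'⟩⟩
  · intro V
    rw [← res_appLE p V.1 (WW pX p V.1) (WW_le V.1) r, hr V]
    exact hy V

end

end Groth.Agent.H3.CAQ
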