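import Mathlib
import Groth.Prelude.Def_ConstAct2
import Groth.Prelude.Def_StMod2
import Groth.Agent.H4.QstA
import Groth.Agent.Lib.Helper3.QDiag.FQuot
import Groth.Agent.Lib.Helper3.CAQ.Sch

/-!
# `O → π_* O` is an isomorphism for `[Spec A/G] → Spec A^G` (helper3)
-/

set_option autoImplicit false
universe u
open CategoryTheory CategoryTheory.Limits AlgebraicGeometry Opposite
open MonoidalCategory CartesianMonoidalCategory

namespace Groth.Agent.H3.CAQ

open Groth.Agent.H4 Groth.Agent.H4.QstA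

lemma appTop_comp_apply {X Y Z : Scheme.{u}} (f : X ⟶ Y) (g : Y ⟶ Z) (r : Γ(Z, ⊤)) :
    (f ≫ g).appTop.hom r = f.appTop.hom (g.appTop.hom r) := by
  rw [Scheme.Hom.comp_appTop]
  rfl

/-- a flat surjective morphism is injective on global functions -/
lemma appTop_injective_of_flat_surjective {X Y : Scheme.{u}} (f : X ⟶ Y) [Flat f] [Surjective f] :
    Function.Injective f.appTop.hom := by
  intro s t hst
  apply TopCat.Presheaf.section_ext Y.sheaf ⊤ s t
  intro y hy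
  obtain ⟨x, rfl⟩ := f.surjective y
  have hinj : Function.Injective (f.stalkMap x).hom := by
    algebraize [(f.stalkMap x).hom]
    have : Module.FaithfullyFlat (Y.presheaf.stalk (f x)) (X.presheaf.stalk x) :=
      @Module.FaithfullyFlat.of_flat_of_isLocalHom _ _ _ _ _ _ _
        (Flat.stalkMap f x) (f.toLRSHom.prop x)
    exact ‹RingHom.FaithfullyFlat _›.injective
  apply hinj
  have h1 := Scheme.Hom.germ_stalkMap_apply f ⊤ x hy s
  have h2 := Scheme.Hom.germ_stalkMap_apply f ⊤ x hy t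
  exact h1.trans ((congrArg _ hst).trans h2.symm)

lemma spec_hinj {R S : CommRingCat.{u}} (φ : R ⟶ S) (h : Function.Injective φ.hom) :
    Function.Injective (Spec.map φ).appTop.hom := by
  intro x y hxy
  have hn : ∀ z : Γ(Spec R, ⊤), (Scheme.ΓSpecIso S).hom.hom ((Spec.map φ).appTop.hom z) =
      φ.hom ((Scheme.ΓSpecIso R).hom.hom z) := fun z =>
    congrArg (fun k => k.hom z) (Scheme.ΓSpecIso_naturality φ)
  have h1 : φ.hom ((Scheme.ΓSpecIso R).hom.hom x) = φ.hom ((Scheme.ΓSpecIso R).hom.hom y) := by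
    rw [← hn, ← hn, hxy]
  have h2 := h h1
  have h3 : ∀ z : Γ(Spec R, ⊤), (Scheme.ΓSpecIso R).inv.hom ((Scheme.ΓSpecIso R).hom.hom z) = z :=
    fun z => congrArg (fun k => k.hom z) (Scheme.ΓSpecIso R).hom_inv_id
  rw [← h3 x, ← h3 y, h2]

lemma spec_hinv {R S : CommRingCat.{u}} (φ : R ⟶ S) {G : Type*} (ψ : G → (S ⟶ S))
    (hinv : ∀ a : S, (∀ γ, (ψ γ).hom a = a) → a ∈ Set.range φ.hom) :
    ∀ a' : Γ(Spec S, ⊤), (∀ γ, (Spec.map (ψ γ)).appTop.hom a' = a') →
      a' ∈ Set.range (Spec.map φ).appTop.hom := by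
  intro a' ha'
  have hn : ∀ γ (z : Γ(Spec S, ⊤)), (Scheme.ΓSpecIso S).hom.hom ((Spec.map (ψ γ)).appTop.hom z) =
      (ψ γ).hom ((Scheme.ΓSpecIso S).hom.hom z) := fun γ z =>
    congrArg (fun k => k.hom z) (Scheme.ΓSpecIso_naturality (ψ γ))
  obtain ⟨a0, ha0⟩ := hinv ((Scheme.ΓSpecIso S).hom.hom a') (fun γ => by rw [← hn, ha' γ])
  refine ⟨(Scheme.ΓSpecIso R).inv.hom a0, ?_⟩
  have h1 : (Scheme.ΓSpecIso S).inv.hom (φ.hom a0) =
      (Spec.map φ).appTop.hom ((Scheme.ΓSpecIso R).inv.hom a0) :=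
    congrArg (fun k => k.hom a0) (Scheme.ΓSpecIso_inv_naturality φ)
  rw [← h1, ha0]
  exact congrArg (fun k => k.hom a') (Scheme.ΓSpecIso S).hom_inv_id

section Gen

variable {S : Scheme.{u}} {G : Over S} [GrpObj G] {X Y : Over S} {aX : AlgGrp.Action G X}

/-- the sheaf `h_Y` -/
noncomputable abbrev MY (Y : Over S) : AlgSp.Sp S := (AlgSp.yon S).obj Y

variable (quot : X ⟶ Y)
  (hm : (MY Y).obj.map aX.act.op (ULift.up quot) = (MY Y).obj.map (snd G X).op (ULift.up quot))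

/-- the functor `[X/G] ⟶ Y` induced by an invariant morphism -/
noncomputable abbrev PiF : AlgSt.QuotSt Scheme.fppfPrecoverage G aX ⥤ᵇ AlgSt.ofSp (MY Y) :=
  descFunctor (K := Scheme.fppfPrecoverage) (MY Y) (ULift.up quot) hm

lemma d_spec (ξ : AlgSt.QuotObj Scheme.fppfPrecoverage G aX) :
    ξ.π ≫ (desc (MY Y) (ULift.up quot) hm ξ).down = ξ.φ ≫ quot :=
  congrArg ULift.down (desc_spec (MY Y) (ULift.up quot) hm ξ)

lemma baseOver_desc (ξ : AlgSt.QuotObj Scheme.fppfPrecoverage G aX) {η : (AlgSt.ofSp (MY Y)).obj}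
    (α : (PiF quot hm).obj ξ ⟶ η) : StMod.baseOver (PiF quot hm) ξ α = α.hom := by
  unfold StMod.baseOver
  exact Category.id_comp _

include hm in
theorem unit_bijective (E : AlgSp.EtOver (MY Y)) (gE : E.obj.left ⟶ Y)
    (hgE : (AlgSp.yon S).map gE = E.obj.hom)
    {To : Over S} (pXo : To ⟶ X) (po : To ⟶ E.obj.left) (hsq : pXo ≫ quot = po ≫ gE)
    (hlift : ∀ {V : Over S} (x : V ⟶ X) (a : V ⟶ E.obj.left), x ≫ quot = a ≫ gE →
      ∃ u : V ⟶ To, u ≫ pXo = x ∧ u ≫ po = a)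
    {Γ₀ : Type*} (θ : Γ₀ → (To ⟶ To)) (gg : Γ₀ → (To ⟶ G))
    (hθp : ∀ γ, θ γ ≫ po = po) (hθg : ∀ γ, lift (gg γ) (θ γ ≫ pXo) ≫ aX.act = pXo)
    (hINJ : Function.Injective po.left.appTop.hom)
    (hINV : ∀ t : Γ(To.left, ⊤), (∀ γ, (θ γ).left.appTop.hom t = t) →
      ∃ r : Γ(E.obj.left.left, ⊤), po.left.appTop.hom r = t) :
    Function.Bijective (StMod.unitSect (PiF quot hm) (StMod.etaOf E)) := by
  have hsec : (StMod.etaOf E).sec = ULift.up gE := by
    change (AlgSp.J S).uliftYonedaEquiv E.obj.hom = _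
    rw [← hgE]
    exact GrothendieckTopology.uliftYonedaEquiv_uliftYoneda_map _ gE
  have hd₀ : desc (MY Y) (ULift.up quot) hm
      ((AlgSt.quotMap Scheme.fppfPrecoverage G aX).obj (pt pXo)) = ULift.up (pXo ≫ quot) :=
    desc_quotMap (MY Y) (ULift.up quot) hm (pt pXo)
  obtain ⟨α₀, hα₀⟩ : ∃ α₀ : (PiF quot hm).obj
      ((AlgSt.quotMap Scheme.fppfPrecoverage G aX).obj (pt pXo)) ⟶ StMod.etaOf E,
      α₀.hom = po :=
    ⟨⟨po, by
      rw [hsec]
      exact (congrArg ULift.up hsq.symm).trans hd₀.symm⟩, rfl⟩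
  constructor
  · intro r r' hrr
    have h1 := congrArg (fun s => s.1 _ α₀) hrr
    simp only [StMod.unitSect_val] at h1
    rw [baseOver_desc, hα₀] at h1
    exact hINJ h1
  · intro s
    -- the value at the universal object is invariant
    have hinvt : ∀ γ, (θ γ).left.appTop.hom (s.1 _ α₀) = s.1 _ α₀ := by
      intro γ
      obtain ⟨h, hb, -⟩ := (QsA.main38 Scheme.fppfPrecoverage aX To To (θ γ) pXo pXo).2 (gg γ) (hθg γ)
      have hs := s.2 h α₀
      have e3 : (PiF quot hm).map h ≫ α₀ = α₀ := by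
        apply Stk.EltObj.hom_ext
        change h.base ≫ α₀.hom = α₀.hom
        rw [hb, hα₀]
        exact hθp γ
      rw [e3, StMod.O_mapTop] at hs
      have hbm : StMod.bmap (AlgSt.QuotSt Scheme.fppfPrecoverage G aX) h = (θ γ).left :=
        congrArg CommaMorphism.left hb
      rw [hbm] at hs
      exact hs
    obtain ⟨r, hr⟩ := hINV (s.1 _ α₀) hinvt
    refine ⟨r, ?_⟩
    refine StMod.Mod.RelSect.ext _ _ _ (fun ξ α => ?_)
    rw [StMod.unitSect_val, baseOver_desc]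
    obtain ⟨V, σ, hfl, -, hsurj⟩ := Groth.Agent.H3.QDiag.exists_fppf_section ξ
    obtain ⟨h, hb, -⟩ := trivHom ξ σ (σ ≫ ξ.φ) rfl
    obtain ⟨a, ha⟩ : ∃ a : ξ.base ⟶ E.obj.left, a = α.hom := ⟨_, rfl⟩
    have hα : a ≫ gE = (desc (MY Y) (ULift.up quot) hm ξ).down := by
      have := α.map_sec
      rw [hsec] at this
      rw [ha]
      exact congrArg ULift.down this
    have hx : (σ ≫ ξ.φ) ≫ quot = ((σ ≫ ξ.π) ≫ a) ≫ gE := by
      rw [Category.assoc, Category.assoc, Category.assoc, hα, d_spec]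
    obtain ⟨u, hu₁, hu₂⟩ := hlift (σ ≫ ξ.φ) ((σ ≫ ξ.π) ≫ a) hx
    obtain ⟨k, hk⟩ : ∃ k : (pt (σ ≫ ξ.φ) : (AlgSt.ofSch X).obj) ⟶ pt pXo, k.hom = u :=
      ⟨⟨u, congrArg ULift.up hu₁⟩, rfl⟩
    have e1 := s.2 h α
    have e2 := s.2 ((AlgSt.quotMap Scheme.fppfPrecoverage G aX).map k) α₀
    have e3 : (PiF quot hm).map h ≫ α =
        (PiF quot hm).map ((AlgSt.quotMap Scheme.fppfPrecoverage G aX).map k) ≫ α₀ := by
      apply Stk.EltObj.hom_ext
      change h.base ≫ α.hom = k.hom ≫ α₀.hom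
      have e4 : k.hom ≫ α₀.hom = u ≫ po := by rw [hk, hα₀] <;> rfl
      have e5 : h.base ≫ α.hom = (σ ≫ ξ.π) ≫ a := by rw [hb, ha] <;> rfl
      exact e5.trans (hu₂.symm.trans e4.symm)
    rw [StMod.O_mapTop] at e1 e2
    have hbm1 : StMod.bmap (AlgSt.QuotSt Scheme.fppfPrecoverage G aX) h = (σ ≫ ξ.π).left :=
      congrArg CommaMorphism.left hb
    have hbm2 : StMod.bmap (AlgSt.QuotSt Scheme.fppfPrecoverage G aX)
        ((AlgSt.quotMap Scheme.fppfPrecoverage G aX).map k) = u.left :=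
      congrArg CommaMorphism.left hk
    rw [hbm1] at e1
    rw [hbm2, ← e3] at e2
    haveI : Flat (σ ≫ ξ.π).left := hfl
    haveI : Surjective (σ ≫ ξ.π).left := hsurj
    apply appTop_injective_of_flat_surjective (σ ≫ ξ.π).left
    refine Eq.trans ?_ (e2.trans e1.symm)
    -- (σ ≫ ξ.π).left^* (α.hom.left^* r) = u.left^* (s ξ₀ α₀)
    rw [← hr, ← ha]
    have c1 := appTop_comp_apply (σ ≫ ξ.π).left a.left r
    have c2 := appTop_comp_apply u.left po.left r
    have c3 : (σ ≫ ξ.π).left ≫ a.left = u.left ≫ po.left := by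
      rw [← Over.comp_left, ← Over.comp_left, hu₂]
    rw [c3] at c1
    exact c1.symm.trans c2

end Gen

end Groth.Agent.H3.CAQ
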