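import Mathlib
import Groth.Agent.Lib.Helper3.CAQ.Main

/-!
# `O → π_* O` is an isomorphism for `[Spec A/G] → Spec A^G`: the constant group case (helper3)
-/

set_option autoImplicit false
universe u
open CategoryTheory CategoryTheory.Limits AlgebraicGeometry Opposite
open MonoidalCategory CartesianMonoidalCategory

namespace Groth.Agent.H3.CAQ

open Groth.Agent.H4 Groth.Agent.H4.QstA ConstAct

section OverPullback

variable {S : Scheme.{u}} {X Y E : Over S} (q : X ⟶ Y) (g : E ⟶ Y)

/-- the fibre product `X ×_Y E` as a scheme over `S` -/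
noncomputable abbrev Tob : Over S := Over.mk (pullback.snd q.left g.left ≫ E.hom)

lemma Tob_w : pullback.fst q.left g.left ≫ X.hom = (Tob q g).hom := by
  change _ = pullback.snd q.left g.left ≫ E.hom
  rw [← Over.w q, ← Over.w g, ← Category.assoc, ← Category.assoc, pullback.condition]

noncomputable abbrev pXob : Tob q g ⟶ X := Over.homMk (pullback.fst q.left g.left) (Tob_w q g)

noncomputable abbrev pob : Tob q g ⟶ E := Over.homMk (pullback.snd q.left g.left) rfl

lemma sq_ob : pXob q g ≫ q = pob q g ≫ g :=
  Over.OverMorphism.ext pullback.condition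

lemma lift_ob {V : Over S} (x : V ⟶ X) (a : V ⟶ E) (h : x ≫ q = a ≫ g) :
    ∃ u : V ⟶ Tob q g, u ≫ pXob q g = x ∧ u ≫ pob q g = a := by
  have hl : x.left ≫ q.left = a.left ≫ g.left := congrArg CommaMorphism.left h
  refine ⟨Over.homMk (pullback.lift x.left a.left hl) ?_, ?_, ?_⟩
  · change pullback.lift x.left a.left hl ≫ pullback.snd q.left g.left ≫ E.hom = V.hom
    rw [pullback.lift_snd_assoc, Over.w a]
  · exact Over.OverMorphism.ext (pullback.lift_fst _ _ _)
  · exact Over.OverMorphism.ext (pullback.lift_snd _ _ _)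

lemma lift_const_act {G X : Over S} [GrpObj G] (aX : AlgGrp.Action G X) (c : X ⟶ G) (δ : X ⟶ X)
    (hc : lift c (𝟙 X) ≫ aX.act = δ) {T : Over S} (y : T ⟶ X) :
    lift (y ≫ c) y ≫ aX.act = y ≫ δ := by
  have h : lift (y ≫ c) y = y ≫ lift c (𝟙 X) := by rw [comp_lift, Category.comp_id]
  rw [h, Category.assoc, hc]

end OverPullback

variable (R : Type u) [CommRing R] (A : Type u) [CommRing A] [Algebra R A]
  (G : Type u) [Group G] [Fintype G] [DecidableEq G] [MulSemiringAction G A] [SMulCommClass G R A]

/-- the constant point `γ` of the constant group scheme, over `Spec A` -/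
noncomputable def cpt (γ : G) : X R A ⟶ GR R G := CoactBr.pt (constPt R G (K := A) γ)

omit [Fintype G] [DecidableEq G] in
lemma act_cancel (γ : G) {T : Over (Spec (CommRingCat.of R))} (y : T ⟶ specA R A) :
    (y ≫ act R A G γ) ≫ act R A G γ⁻¹ = y := by
  rw [Category.assoc, ← act_mul, mul_inv_cancel, act_one, Category.comp_id]

lemma lift_cpt_act (γ : G) :
    lift (cpt R A G γ) (𝟙 (X R A)) ≫ (gaction R A G).act = act R A G γ⁻¹ := by
  have h := gaction_constPt R A G (K := A) γ (AlgHom.id R A)
  rw [CoactBr.pt_id, Category.id_comp] at h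
  exact h

theorem main (π : quotSt R A G Scheme.fppfPrecoverage ⥤ᵇ AlgSt.ofSch (specInv R A G))
    (hπ : BasedFunctor.comp
        (AlgSt.quotMap Scheme.fppfPrecoverage (GR R G) (gaction R A G)) π =
      AlgSt.ofSpMap ((AlgSp.yon (Spec (CommRingCat.of R))).map (quot R A G))) :
    StMod.UnitIsIso π := by
  have h1 : sec π ((AlgSt.quotMap Scheme.fppfPrecoverage (GR R G) (gaction R A G)).obj
      (pt (𝟙 (X R A)))) = ULift.up (quot R A G) := by
    have := congrArg (fun e => sec e (pt (𝟙 (X R A)))) hπ
    refine this.trans ((sec_ofPshMap _ _).trans ?_)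
    change ULift.up (𝟙 (specA R A) ≫ quot R A G) = ULift.up (quot R A G)
    rw [Category.id_comp]
  have hm : (MY (specInv R A G)).obj.map (gaction R A G).act.op (ULift.up (quot R A G)) =
      (MY (specInv R A G)).obj.map (snd (GR R G) (X R A)).op (ULift.up (quot R A G)) := by
    have h0 := restrict_invariant (K := Scheme.fppfPrecoverage) (aX := gaction R A G) π
    rw [h1] at h0
    exact h0
  have hπ' : π = PiF (quot R A G) hm := by
    apply functor_ext_of_quotMap (MY (specInv R A G))
    intro a
    have h2 : sec π ((AlgSt.quotMap Scheme.fppfPrecoverage (GR R G) (gaction R A G)).obj a) =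
        sec (AlgSt.ofSpMap ((AlgSp.yon (Spec (CommRingCat.of R))).map (quot R A G))) a :=
      congrArg (fun e => sec e a) hπ
    have e1 : sec (PiF (quot R A G) hm)
        ((AlgSt.quotMap Scheme.fppfPrecoverage (GR R G) (gaction R A G)).obj a) =
        (MY (specInv R A G)).obj.map a.sec.down.op (ULift.up (quot R A G)) :=
      (sec_descFunctor (MY (specInv R A G)) (ULift.up (quot R A G)) hm _).trans
        (desc_quotMap (MY (specInv R A G)) (ULift.up (quot R A G)) hm a)
    exact h2.trans ((sec_ofPshMap _ a).trans e1.symm)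
  subst hπ'
  intro E
  obtain ⟨gE, hgE⟩ := (AlgSp.yon (Spec (CommRingCat.of R))).map_surjective E.obj.hom
  have het : Etale gE.left :=
    (AlgSp.repWith_yon_map_iff @Etale gE).1 (by rw [hgE]; exact E.property)
  haveI : Flat gE.left := inferInstance
  haveI : IsAffine (specA R A).left := by change IsAffine (Spec _); infer_instance
  haveI : IsAffine (specInv R A G).left := by change IsAffine (Spec _); infer_instance
  -- the group action on the fibre product
  have hθ : ∀ γ : G, ∃ θ : Tob (quot R A G) gE ⟶ Tob (quot R A G) gE,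
      θ ≫ pXob (quot R A G) gE = pXob (quot R A G) gE ≫ act R A G γ ∧
        θ ≫ pob (quot R A G) gE = pob (quot R A G) gE := fun γ =>
    lift_ob (quot R A G) gE (pXob (quot R A G) gE ≫ act R A G γ) (pob (quot R A G) gE)
      (by rw [Category.assoc, act_quot, sq_ob])
  choose θ hθX hθp using hθ
  have hθg : ∀ γ, lift ((θ γ ≫ pXob (quot R A G) gE) ≫ cpt R A G γ)
      (θ γ ≫ pXob (quot R A G) gE) ≫ (gaction R A G).act = pXob (quot R A G) gE := by
    intro γ
    exact (lift_const_act (gaction R A G) (cpt R A G γ) (act R A G γ⁻¹) (lift_cpt_act R A G γ)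
      (θ γ ≫ pXob (quot R A G) gE)).trans
      ((congrArg (fun z => z ≫ act R A G γ⁻¹) (hθX γ)).trans (act_cancel R A G γ _))
  -- the scheme-level input
  have hσ : ∀ γ : G, (act R A G γ).left ≫ (quot R A G).left = (quot R A G).left := fun γ =>
    congrArg CommaMorphism.left (act_quot R A G γ)
  have hinj : Function.Injective (quot R A G).left.appTop.hom :=
    spec_hinj (CommRingCat.ofHom (inv R A G).val.toRingHom) Subtype.val_injective
  have hinv : ∀ a : Γ((X R A).left, ⊤), (∀ γ : G, (act R A G γ).left.appTop.hom a = a) →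
      a ∈ Set.range (quot R A G).left.appTop.hom :=
    spec_hinv (CommRingCat.ofHom (inv R A G).val.toRingHom)
      (fun γ : G => CommRingCat.ofHom (MulSemiringAction.toRingHom G A γ))
      (fun a ha => ⟨⟨a, fun γ => ha γ⟩, rfl⟩)
  have H := IsPullback.of_hasPullback (quot R A G).left gE.left
  have hθp' : ∀ γ, (θ γ).left ≫ pullback.snd (quot R A G).left gE.left =
      pullback.snd (quot R A G).left gE.left := fun γ => congrArg CommaMorphism.left (hθp γ)
  have hθX' : ∀ γ, (θ γ).left ≫ pullback.fst (quot R A G).left gE.left =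
      pullback.fst (quot R A G).left gE.left ≫ (act R A G γ).left := fun γ =>
    congrArg CommaMorphism.left (hθX γ)
  exact unit_bijective (quot R A G) hm E gE hgE (pXob (quot R A G) gE) (pob (quot R A G) gE)
    (sq_ob (quot R A G) gE) (fun x a h => lift_ob (quot R A G) gE x a h) θ
    (fun γ => (θ γ ≫ pXob (quot R A G) gE) ≫ cpt R A G γ) hθp hθg
    (inj_appTop H (fun γ => (act R A G γ).left) hσ hinj hinv (fun γ => (θ γ).left) hθp' hθX')
    (fun t ht => exists_of_invariant H (fun γ => (act R A G γ).left) hσ hinj hinv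
      (fun γ => (θ γ).left) hθp' hθX' t ht)

end Groth.Agent.H3.CAQ
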