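import Mathlib

/-!
# Ring homomorphisms to a domain that agree on the invariants of a finite group differ by a
group element (helper3)
-/

set_option autoImplicit false
universe u
open Polynomial

namespace Groth.Agent.H3.CAQ.Orbit

variable {B D : Type*} [CommRing B] [CommRing D] [IsDomain D] {G : Type*} [Group G] [Fintype G]
  [MulSemiringAction G B]

/-- elementwise version -/
theorem exists_smul_eq (x x' : B →+* D) (h : ∀ b : B, (∀ γ : G, γ • b = b) → x b = x' b) (b : B) :
    ∃ γ : G, x' b = x (γ • b) := by
  have hf : (MulSemiringAction.charpoly G b).map x = (MulSemiringAction.charpoly G b).map x' := by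
    ext n
    rw [coeff_map, coeff_map]
    exact h _ (MulSemiringAction.smul_coeff_charpoly b n)
  have h0 : ((MulSemiringAction.charpoly G b).map x').eval (x' b) = 0 := by
    rw [eval_map, eval₂_at_apply, MulSemiringAction.eval_charpoly, map_zero]
  rw [← hf, MulSemiringAction.charpoly_eq, Polynomial.map_prod, eval_prod] at h0
  obtain ⟨γ, -, hγ⟩ := Finset.prod_eq_zero_iff.1 h0
  refine ⟨γ, ?_⟩
  rw [Polynomial.map_sub, map_X, map_C, eval_sub, eval_X, eval_C, sub_eq_zero] at hγ
  exact hγ

/-- **transitivity on points with values in a domain**: two ring homomorphisms to a domain that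
agree on the invariants differ by the action of a group element -/
theorem exists_uniform (x x' : B →+* D) (h : ∀ b : B, (∀ γ : G, γ • b = b) → x b = x' b) :
    ∃ γ : G, ∀ b : B, x' b = x (γ • b) := by
  by_contra hcon
  push Not at hcon
  choose c hc using hcon
  obtain ⟨e, -⟩ : ∃ e : G ≃ Fin (Fintype.card G), True := ⟨Fintype.equivFin G, trivial⟩
  obtain ⟨p, hpdef⟩ : ∃ p : B[X], p = ∑ γ : G, C (c γ) * X ^ (e γ : ℕ) := ⟨_, rfl⟩
  have hp : ∀ γ, p.coeff (e γ : ℕ) = c γ := by
    intro γ
    rw [hpdef, finsetSum_coeff, Finset.sum_eq_single γ]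
    · rw [coeff_C_mul, coeff_X_pow, if_pos rfl, mul_one]
    · intro δ _ hδ
      have hne : (e γ : ℕ) ≠ (e δ : ℕ) := fun h => hδ (e.injective (Fin.ext h)).symm
      rw [coeff_C_mul, coeff_X_pow, if_neg hne, mul_zero]
    · intro hγ
      exact absurd (Finset.mem_univ γ) hγ
  have hq : ∀ q : B[X], (∀ γ : G, γ • q = q) → mapRingHom x q = mapRingHom x' q := by
    intro q hq
    ext n
    rw [coe_mapRingHom, coe_mapRingHom, coeff_map, coeff_map]
    apply h
    intro γ
    have h1 := congrArg (fun r => r.coeff n) (hq γ)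
    simp only [coeff_smul] at h1
    exact h1
  obtain ⟨δ, hδ⟩ := exists_smul_eq (G := G) (mapRingHom x) (mapRingHom x') hq p
  apply hc δ
  have h2 := congrArg (fun q => q.coeff (e δ : ℕ)) hδ
  simp only [coe_mapRingHom, coeff_map, coeff_smul, hp] at h2
  exact h2

end Groth.Agent.H3.CAQ.Orbit
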