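import Mathlib
import Groth.Prelude.Def_ConstAct2
import Groth.Agent.Lib.Helper3.CAQ.Orbit

/-!
# `Spec A ⟶ Spec A^G` is universally open, and `G` is transitive on its geometric fibres (helper3)
-/

set_option autoImplicit false
universe u
open CategoryTheory CategoryTheory.Limits AlgebraicGeometry

namespace Groth.Agent.H3.CAQ

section Gen

variable {X Y : Scheme.{u}} (q : X ⟶ Y) {Γ : Type*} (σ : Γ → (X ⟶ X))

/-- points with values in a domain that agree after `q` are in one orbit -/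
def OrbitProp : Prop :=
  ∀ (L : CommRingCat.{u}) [IsDomain L] (x x' : Spec L ⟶ X), x ≫ q = x' ≫ q → ∃ γ, x' = x ≫ σ γ

theorem isOpenMap_of_orbit [UniversallyClosed q] [Surjective q] (hσ : ∀ γ, σ γ ≫ q = q)
    (horb : OrbitProp q σ) {P T : Scheme.{u}} (f' : P ⟶ T) (i₁ : P ⟶ X) (i₂ : T ⟶ Y)
    (hpb : IsPullback f' i₁ i₂ q) : IsOpenMap f' := by
  have hθ : ∀ γ, ∃ θ : P ⟶ P, θ ≫ f' = f' ∧ θ ≫ i₁ = i₁ ≫ σ γ := fun γ =>
    ⟨hpb.lift f' (i₁ ≫ σ γ) (by rw [Category.assoc, hσ, hpb.w]), hpb.lift_fst _ _ _,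
      hpb.lift_snd _ _ _⟩
  choose θ hθf hθi using hθ
  have hclosed : IsClosedMap f' :=
    (UniversallyClosed.universally_isClosedMap (f := q)) i₁ i₂ f' hpb
  haveI hsurj : Surjective f' :=
    MorphismProperty.of_isPullback (P := @Surjective) hpb.flip ‹Surjective q›
  have horb' : ∀ w₁ w₂ : P, f' w₁ = f' w₂ → ∃ γ, θ γ w₁ = w₂ := by
    intro w₁ w₂ h12
    obtain ⟨z, hz1, hz2⟩ := Scheme.Pullback.exists_preimage_pullback (f := f') (g := f') w₁ w₂ h12
    obtain ⟨ι, hι⟩ : ∃ ι : Spec ((pullback f' f').residueField z) ⟶ pullback f' f',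
      ι = (pullback f' f').fromSpecResidueField z := ⟨_, rfl⟩
    obtain ⟨y₁, hy₁⟩ : ∃ y₁ : Spec ((pullback f' f').residueField z) ⟶ P,
      y₁ = ι ≫ pullback.fst f' f' := ⟨_, rfl⟩
    obtain ⟨y₂, hy₂⟩ : ∃ y₂ : Spec ((pullback f' f').residueField z) ⟶ P,
      y₂ = ι ≫ pullback.snd f' f' := ⟨_, rfl⟩
    have hyf : y₁ ≫ f' = y₂ ≫ f' := by
      rw [hy₁, hy₂, Category.assoc, Category.assoc, pullback.condition]
    obtain ⟨γ, hγ⟩ := horb _ (y₁ ≫ i₁) (y₂ ≫ i₁) (by
      rw [Category.assoc, Category.assoc, ← hpb.w, ← Category.assoc, ← Category.assoc, hyf])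
    refine ⟨γ, ?_⟩
    have e : y₂ = y₁ ≫ θ γ := by
      apply hpb.hom_ext
      · rw [Category.assoc, hθf, hyf]
      · rw [Category.assoc, hθi, ← Category.assoc, ← hγ]
    obtain ⟨pt⟩ : Nonempty (Spec ((pullback f' f').residueField z)) :=
      inferInstanceAs (Nonempty (PrimeSpectrum ((pullback f' f').residueField z)))
    have h1 : y₁ pt = w₁ := by
      rw [hy₁, Scheme.Hom.comp_apply, hι, Scheme.fromSpecResidueField_apply, hz1]
    have h2 : y₂ pt = w₂ := by
      rw [hy₂, Scheme.Hom.comp_apply, hι, Scheme.fromSpecResidueField_apply, hz2]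
    rw [← h1, ← Scheme.Hom.comp_apply, ← e, h2]
  intro U hU
  obtain ⟨V, hVdef⟩ : ∃ V : Set P, V = ⋃ γ, (θ γ) ⁻¹' U := ⟨_, rfl⟩
  have hV : IsOpen V := by
    rw [hVdef]
    exact isOpen_iUnion fun γ => hU.preimage (θ γ).continuous
  have hC : IsClosed (f' '' Vᶜ) := hclosed _ hV.isClosed_compl
  have hEq : f' '' U = (f' '' Vᶜ)ᶜ := by
    ext t
    constructor
    · rintro ⟨u, hu, rfl⟩ ⟨c, hc, hcu⟩
      obtain ⟨γ, hγ⟩ := horb' c u hcu
      apply hc
      rw [hVdef]
      exact Set.mem_iUnion.2 ⟨γ, by rw [Set.mem_preimage, hγ]; exact hu⟩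
    · intro ht
      obtain ⟨p, rfl⟩ := f'.surjective t
      have hp : p ∈ V := by
        by_contra hp
        exact ht ⟨p, hp, rfl⟩
      rw [hVdef] at hp
      obtain ⟨γ, hγ⟩ := Set.mem_iUnion.1 hp
      refine ⟨θ γ p, hγ, ?_⟩
      rw [← Scheme.Hom.comp_apply, hθf]
  rw [hEq]
  exact hC.isOpen_compl

theorem universallyOpen_of_orbit [UniversallyClosed q] [Surjective q] (hσ : ∀ γ, σ γ ≫ q = q)
    (horb : OrbitProp q σ) : UniversallyOpen q :=
  ⟨fun _ _ i₁ i₂ f' hpb => isOpenMap_of_orbit q σ hσ horb f' i₁ i₂ hpb⟩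

end Gen

section Inst

open ConstAct

variable (R : Type u) [CommRing R] (A : Type u) [CommRing A] [Algebra R A]
  (G : Type u) [Group G] [Fintype G] [MulSemiringAction G A] [SMulCommClass G R A]

instance isInvariant_inv : Algebra.IsInvariant (inv R A G) A G :=
  ⟨fun b hb => ⟨⟨b, hb⟩, rfl⟩⟩

lemma isIntegral_val : (inv R A G).val.toRingHom.IsIntegral := by
  have h := Algebra.IsInvariant.isIntegral (inv R A G) A G
  exact fun a => h.isIntegral a

instance isIntegralHom_quot : IsIntegralHom (quot R A G).left := by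
  change IsIntegralHom (Spec.map (CommRingCat.ofHom (inv R A G).val.toRingHom))
  rw [IsIntegralHom.SpecMap_iff]
  exact isIntegral_val R A G

instance surjective_quot : Surjective (quot R A G).left := by
  change Surjective (Spec.map (CommRingCat.ofHom (inv R A G).val.toRingHom))
  exact ⟨(isIntegral_val R A G).comap_surjective Subtype.val_injective⟩

theorem orbitProp_quot :
    OrbitProp (quot R A G).left (fun γ : G => (act R A G γ).left) := by
  intro L _ x x' hxx
  obtain ⟨φ, hφ⟩ : ∃ φ : CommRingCat.of A ⟶ L, Spec.map φ = x :=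
    ⟨Spec.preimage x, Spec.map_preimage x⟩
  obtain ⟨φ', hφ'⟩ : ∃ φ' : CommRingCat.of A ⟶ L, Spec.map φ' = x' :=
    ⟨Spec.preimage x', Spec.map_preimage x'⟩
  subst hφ hφ'
  have h1 : CommRingCat.ofHom (inv R A G).val.toRingHom ≫ φ =
      CommRingCat.ofHom (inv R A G).val.toRingHom ≫ φ' := by
    apply Spec.map_injective
    rw [Spec.map_comp, Spec.map_comp]
    exact hxx
  have hag : ∀ b : A, (∀ γ : G, γ • b = b) → φ.hom b = φ'.hom b := by
    intro b hb
    exact congrArg (fun k => k.hom ⟨b, hb⟩) h1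
  obtain ⟨γ, hγ⟩ := Orbit.exists_uniform (G := G) φ.hom φ'.hom hag
  refine ⟨γ, ?_⟩
  have h2 : φ' = CommRingCat.ofHom (MulSemiringAction.toRingHom G A γ) ≫ φ := by
    apply CommRingCat.hom_ext
    apply RingHom.ext
    intro b
    exact hγ b
  rw [h2, Spec.map_comp]
  rfl

theorem universallyOpen_quot : UniversallyOpen (quot R A G).left :=
  universallyOpen_of_orbit (quot R A G).left (fun γ : G => (act R A G γ).left)
    (fun γ => congrArg CommaMorphism.left (act_quot R A G γ)) (orbitProp_quot R A G)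

/-- transitivity on points over `Spec R` with values in a domain -/
theorem orbit_over {L : CommRingCat.{u}} [IsDomain L] (str : Spec L ⟶ Spec (CommRingCat.of R))
    (x x' : Over.mk str ⟶ specA R A) (h : x ≫ quot R A G = x' ≫ quot R A G) :
    ∃ γ : G, x' = x ≫ act R A G γ := by
  obtain ⟨γ, hγ⟩ := orbitProp_quot R A G L x.left x'.left (congrArg CommaMorphism.left h)
  exact ⟨γ, Over.OverMorphism.ext hγ⟩

end Inst

end Groth.Agent.H3.CAQ
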