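import Mathlib
import Groth.Agent.Lib.Helper3.CAQ.Inst
import Groth.Agent.Lib.Helper3.CAQ.UOpen
import Groth.Agent.Lib.Helper3.CAQ.Homeo
import Groth.Agent.Lib.Helper3.QDiag.FQuot
import Groth.Agent.Lib.Helper3.QStk.Main
import Groth.Agent.Lib.Helper3.FpqcLocal2
import Groth.Agent.Lib.Helper3.AlgSt.PropFacts
import Groth.Agent.Lib.Helper3.AlgSpCov.UnivBase
import Groth.Agent.Lib.Helper5.AlgSp.UnivTop

/-!
# `[Spec A/G] ⟶ Spec A^G` is a universal homeomorphism (helper3)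
-/

set_option autoImplicit false
universe u
open CategoryTheory CategoryTheory.Limits AlgebraicGeometry Opposite
open MonoidalCategory CartesianMonoidalCategory

namespace Groth.Agent.H3.CAQ

open Groth.Agent.H4 Groth.Agent.H4.QstA ConstAct

section General

variable {S : Scheme.{u}} {G X : Over S} [GrpObj G]

lemma surjective_hom_of_grpObj (G : Over S) [GrpObj G] : Surjective G.hom := by
  refine ⟨fun s => ⟨(MonObj.one : 𝟙_ (Over S) ⟶ G).left s, ?_⟩⟩
  rw [← Scheme.Hom.comp_apply, Over.w]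
  rfl

/-- the fppf quotient stack by a smooth affine group is algebraic, with surjective chart -/
theorem isAlgStack_quot_fppf (aX : AlgGrp.Action G X) [IsAffineHom G.hom] [QuasiSeparated X.hom]
    (hGs : Smooth G.hom) :
    AlgSt.IsAlgStack Scheme.fppfPrecoverage (AlgSt.QuotSt Scheme.fppfPrecoverage G aX) ∧
      AlgSt.RepByAlgSpWith AlgSp.IsSurjectiveMor (AlgSt.quotMap Scheme.fppfPrecoverage G aX) := by
  have hE : (@Etale : MorphismProperty Scheme.{u}) ≤ @Smooth := fun _ _ f hf => by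
    haveI := hf
    infer_instance
  have hsm : AlgSt.RepByAlgSpWith (AlgSp.LocP @Smooth)
      (Groth.Agent.H4.QstE.ff Scheme.fppfPrecoverage aX) :=
    Groth.Agent.H3.AlgStDiagLft.repByAlgSpWith_mono
      (fun _ _ _ ha => Groth.Agent.H5.AlgSp.locP_of_repWith hE ha)
      (Groth.Agent.H3.QDiag.repByAlgSpWith_ff_fppf (aX := aX) @Smooth hGs)
  have hsurj : AlgSt.RepByAlgSpWith AlgSp.IsSurjectiveMor
      (Groth.Agent.H4.QstE.ff Scheme.fppfPrecoverage aX) :=
    Groth.Agent.H3.AlgStDiagLft.repByAlgSpWith_mono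
      (fun _ _ _ ha => Groth.Agent.H5.AlgSp.points_map_surjective_of_repWith ha)
      (Groth.Agent.H3.QDiag.repByAlgSpWith_ff_fppf (aX := aX) @Surjective
        (surjective_hom_of_grpObj G))
  refine ⟨⟨Groth.Agent.H3.QStk.isStack_fppf,
    (Groth.Agent.H3.QDiag.quot_diag_quasiAffine (aX := aX)).1,
    ⟨X, Groth.Agent.H4.QstE.ff Scheme.fppfPrecoverage aX, hsm, hsurj⟩⟩, ?_⟩
  exact (Groth.Agent.H3.AlgStBridge2.repByAlgSpWith_comp_equiv_iff _ (AlgSt.ofOverCat X)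
    (Groth.Agent.H3.RepBridge.isEquivOver_ofOver X) _).1 hsurj

/-- lifting a point of the base of a torsor to the total space, after a field extension -/
theorem exists_field_lift {aX : AlgGrp.Action G X}
    (ξ : AlgSt.QuotObj Scheme.fppfPrecoverage G aX) {T₀ : Over S} [Nonempty T₀.left]
    (c : T₀ ⟶ ξ.base) :
    ∃ (K : Type u) (_ : Field K) (str : Spec (CommRingCat.of K) ⟶ S) (d : Over.mk str ⟶ T₀)
      (s : Over.mk str ⟶ ξ.P), s ≫ ξ.π = d ≫ c := by
  obtain ⟨V, σ, -, -, hsurj⟩ := Groth.Agent.H3.QDiag.exists_fppf_section ξ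
  obtain ⟨p, hp⟩ : ∃ p : V.left ⟶ ξ.base.left, p = (σ ≫ ξ.π).left := ⟨_, rfl⟩
  haveI : Surjective p := by rw [hp]; exact hsurj
  haveI : Surjective (pullback.fst c.left p) :=
    MorphismProperty.pullback_fst (P := @Surjective) _ _ inferInstance
  obtain ⟨t₀⟩ := ‹Nonempty T₀.left›
  obtain ⟨w, -⟩ := (pullback.fst c.left p).surjective t₀
  obtain ⟨ι, -⟩ : ∃ ι : Spec ((pullback c.left p).residueField w) ⟶ pullback c.left p,
    ι = (pullback c.left p).fromSpecResidueField w := ⟨_, rfl⟩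
  have hcond : pullback.fst c.left p ≫ c.left = pullback.snd c.left p ≫ σ.left ≫ ξ.π.left := by
    rw [pullback.condition, hp]
    rfl
  have hw : (ι ≫ pullback.snd c.left p ≫ σ.left) ≫ ξ.P.hom =
      (ι ≫ pullback.fst c.left p) ≫ T₀.hom := by
    rw [← Over.w ξ.π, ← Over.w c]
    simp only [Category.assoc]
    rw [← Category.assoc (pullback.fst c.left p), hcond]
    simp only [Category.assoc]
  refine ⟨↥((pullback c.left p).residueField w), inferInstance,
    (ι ≫ pullback.fst c.left p) ≫ T₀.hom, Over.homMk (ι ≫ pullback.fst c.left p) rfl,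
    Over.homMk (ι ≫ pullback.snd c.left p ≫ σ.left) hw, ?_⟩
  apply Over.OverMorphism.ext
  change (ι ≫ pullback.snd c.left p ≫ σ.left) ≫ ξ.π.left = (ι ≫ pullback.fst c.left p) ≫ c.left
  simp only [Category.assoc]
  rw [hcond]

end General

variable (R : Type u) [CommRing R] (A : Type u) [CommRing A] [Algebra R A]
  (G : Type u) [Group G] [Fintype G] [DecidableEq G] [MulSemiringAction G A] [SMulCommClass G R A]

omit [Group G] [DecidableEq G] in
lemma smooth_GR : Smooth (GR R G).hom := by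
  have h : Etale (Spec.map (CommRingCat.ofHom (algebraMap R (ConstGrp.F R G)))) := by
    rw [HasRingHomProperty.Spec_iff (P := @Etale)]
    change (algebraMap R (G → R)).Etale
    rw [RingHom.etale_algebraMap]
    infer_instance
  have h' : Etale (GR R G).hom := h
  infer_instance

instance isAffineHom_GR : IsAffineHom (GR R G).hom := by
  change IsAffineHom (Spec.map (CommRingCat.ofHom (algebraMap R (ConstGrp.F R G))))
  infer_instance

instance quasiSeparated_X : QuasiSeparated (X R A).hom := by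
  change QuasiSeparated (Spec.map (CommRingCat.ofHom (algebraMap R A)))
  infer_instance

theorem isAlgStack_quotSt :
    AlgSt.IsAlgStack Scheme.fppfPrecoverage (quotSt R A G Scheme.fppfPrecoverage) ∧
      AlgSt.RepByAlgSpWith AlgSp.IsSurjectiveMor
        (AlgSt.quotMap Scheme.fppfPrecoverage (GR R G) (gaction R A G)) :=
  isAlgStack_quot_fppf (gaction R A G) (smooth_GR R G)

/-- reduction of `π` to the descended functor -/
theorem exists_hm (π : quotSt R A G Scheme.fppfPrecoverage ⥤ᵇ AlgSt.ofSch (specInv R A G))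
    (hπ : BasedFunctor.comp
        (AlgSt.quotMap Scheme.fppfPrecoverage (GR R G) (gaction R A G)) π =
      AlgSt.ofSpMap ((AlgSp.yon (Spec (CommRingCat.of R))).map (quot R A G))) :
    ∃ hm : (MY (specInv R A G)).obj.map (gaction R A G).act.op (ULift.up (quot R A G)) =
      (MY (specInv R A G)).obj.map (snd (GR R G) (X R A)).op (ULift.up (quot R A G)),
      π = PiF (quot R A G) hm := by
  have h1 : sec π ((AlgSt.quotMap Scheme.fppfPrecoverage (GR R G) (gaction R A G)).obj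
      (pt (𝟙 (X R A)))) = ULift.up (quot R A G) := by
    have := congrArg (fun e => sec e (pt (𝟙 (X R A)))) hπ
    refine this.trans ((sec_ofPshMap _ _).trans ?_)
    change ULift.up (𝟙 (specA R A) ≫ quot R A G) = ULift.up (quot R A G)
    rw [Category.id_comp]
  have hm : (MY (specInv R A G)).obj.map (gaction R A G).act.op (ULift.up (quot R A G)) =
      (MY (specInv R A G)).obj.map (snd (GR R G) (X R A)).op (ULift.up (quot R A G)) := by
    have h0 := restrict_invariant (K := Scheme.fppfPrecoverage) (aX := gaction R A G) π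
    rw [h1] at h0
    exact h0
  refine ⟨hm, ?_⟩
  apply functor_ext_of_quotMap (MY (specInv R A G))
  intro a
  have h2 : sec π ((AlgSt.quotMap Scheme.fppfPrecoverage (GR R G) (gaction R A G)).obj a) =
      sec (AlgSt.ofSpMap ((AlgSp.yon (Spec (CommRingCat.of R))).map (quot R A G))) a :=
    congrArg (fun e => sec e a) hπ
  have e1 : sec (PiF (quot R A G) hm)
      ((AlgSt.quotMap Scheme.fppfPrecoverage (GR R G) (gaction R A G)).obj a) =
      (MY (specInv R A G)).obj.map a.sec.down.op (ULift.up (quot R A G)) :=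
    (sec_descFunctor (MY (specInv R A G)) (ULift.up (quot R A G)) hm _).trans
      (desc_quotMap (MY (specInv R A G)) (ULift.up (quot R A G)) hm a)
  exact h2.trans ((sec_ofPshMap _ a).trans e1.symm)

/-- the diagonal of `[Spec A/G] ⟶ Spec A^G` is surjective on points -/
theorem diag_surj
    (hm : (MY (specInv R A G)).obj.map (gaction R A G).act.op (ULift.up (quot R A G)) =
      (MY (specInv R A G)).obj.map (snd (GR R G) (X R A)).op (ULift.up (quot R A G))) :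
    AlgSt.IsSurjective (FibCat.diag (PiF (quot R A G) hm)) := by
  intro w
  obtain ⟨q, rfl⟩ := AlgSt.Points.mk_surjective w
  obtain ⟨K, str, ⟨⟨ξ₁₀, ξ₂₀, φi⟩, hlift⟩, lies⟩ := q
  obtain ⟨ξ₁, hξ₁⟩ : ∃ ξ₁ : AlgSt.QuotObj Scheme.fppfPrecoverage (GR R G) (gaction R A G),
    ξ₁ = ξ₁₀ := ⟨_, rfl⟩
  obtain ⟨ξ₂, hξ₂⟩ : ∃ ξ₂ : AlgSt.QuotObj Scheme.fppfPrecoverage (GR R G) (gaction R A G),
    ξ₂ = ξ₂₀ := ⟨_, rfl⟩
  subst hξ₁ hξ₂
  obtain ⟨φ, hφ⟩ : ∃ φ : (PiF (quot R A G) hm).obj ξ₁ ⟶ (PiF (quot R A G) hm).obj ξ₂,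
      φ = φi.hom := ⟨_, rfl⟩
  have hbase : ξ₁.base = Over.mk str := lies
  obtain ⟨e, he⟩ : ∃ e : ξ₁.base ⟶ ξ₂.base, e = φ.hom := ⟨_, rfl⟩
  obtain ⟨δ₁, hδ₁⟩ : ∃ δ₁ : ξ₁.base ⟶ specInv R A G,
    δ₁ = (desc (MY (specInv R A G)) (ULift.up (quot R A G)) hm ξ₁).down := ⟨_, rfl⟩
  obtain ⟨δ₂, hδ₂⟩ : ∃ δ₂ : ξ₂.base ⟶ specInv R A G,
    δ₂ = (desc (MY (specInv R A G)) (ULift.up (quot R A G)) hm ξ₂).down := ⟨_, rfl⟩
  have hd₁ : ξ₁.π ≫ δ₁ = ξ₁.φ ≫ quot R A G := by
    rw [hδ₁]; exact d_spec (quot R A G) hm ξ₁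
  have hd₂ : ξ₂.π ≫ δ₂ = ξ₂.φ ≫ quot R A G := by
    rw [hδ₂]; exact d_spec (quot R A G) hm ξ₂
  have hsec : e ≫ δ₂ = δ₁ := by
    rw [he, hδ₁, hδ₂]
    exact congrArg ULift.down φ.map_sec
  haveI : Nonempty (Over.mk str).left := inferInstanceAs (Nonempty (PrimeSpectrum K))
  obtain ⟨K', _, str', d, s₁, hs₁⟩ :=
    exists_field_lift ξ₁ (T₀ := Over.mk str) (eqToHom hbase.symm)
  haveI : Nonempty (Over.mk str').left := inferInstanceAs (Nonempty (PrimeSpectrum K'))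
  obtain ⟨K'', _, str'', d', s₂, hs₂⟩ :=
    exists_field_lift ξ₂ (T₀ := Over.mk str') (d ≫ eqToHom hbase.symm ≫ e)
  obtain ⟨x₁, hx₁⟩ : ∃ x₁ : Over.mk str'' ⟶ X R A, x₁ = (d' ≫ s₁) ≫ ξ₁.φ := ⟨_, rfl⟩
  obtain ⟨x₂, hx₂⟩ : ∃ x₂ : Over.mk str'' ⟶ X R A, x₂ = s₂ ≫ ξ₂.φ := ⟨_, rfl⟩
  have a1 : x₁ ≫ quot R A G = (d' ≫ d ≫ eqToHom hbase.symm) ≫ δ₁ := by
    rw [hx₁, Category.assoc]
    refine (congrArg (fun z => (d' ≫ s₁) ≫ z) hd₁.symm).trans ?_
    rw [Category.assoc, ← Category.assoc s₁, hs₁]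
    simp only [Category.assoc]
  have a2 : x₂ ≫ quot R A G = (d' ≫ d ≫ eqToHom hbase.symm ≫ e) ≫ δ₂ := by
    rw [hx₂, Category.assoc]
    refine (congrArg (fun z => s₂ ≫ z) hd₂.symm).trans ?_
    rw [← Category.assoc, hs₂]
  have a3 : (d' ≫ d ≫ eqToHom hbase.symm) ≫ δ₁ = (d' ≫ d ≫ eqToHom hbase.symm ≫ e) ≫ δ₂ := by
    rw [← hsec]
    simp only [Category.assoc]
  have hq12 : x₁ ≫ quot R A G = x₂ ≫ quot R A G := a1.trans (a3.trans a2.symm)
  haveI : IsDomain (CommRingCat.of K'') := inferInstanceAs (IsDomain K'')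
  obtain ⟨γ, hγ⟩ := orbit_over R A G (L := CommRingCat.of K'') str'' x₁ x₂ hq12
  have hg : lift (x₂ ≫ cpt R A G γ) (𝟙 _ ≫ x₂) ≫ (gaction R A G).act = x₁ := by
    rw [Category.id_comp]
    refine (lift_const_act (gaction R A G) (cpt R A G γ) (act R A G γ⁻¹)
      (lift_cpt_act R A G γ) x₂).trans ?_
    rw [hγ]
    exact act_cancel R A G γ x₁
  obtain ⟨h, hb, -⟩ := (QsA.main38 Scheme.fppfPrecoverage (gaction R A G) _ _
    (𝟙 (Over.mk str'')) x₁ x₂).2 (x₂ ≫ cpt R A G γ) hg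
  obtain ⟨m₁, hm₁, -⟩ := trivHom ξ₁ (d' ≫ s₁) x₁ hx₁.symm
  obtain ⟨m₂, hm₂, -⟩ := trivHom ξ₂ s₂ x₂ hx₂.symm
  refine ⟨AlgSt.Points.mk ⟨K'', str'',
    (AlgSt.quotMap Scheme.fppfPrecoverage (GR R G) (gaction R A G)).obj (pt x₁), rfl⟩, ?_⟩
  rw [AlgSt.Points.map_mk]
  apply AlgSt.Points.sound
  have w : (PiF (quot R A G) hm).map m₁ ≫ φi.hom =
      𝟙 _ ≫ (PiF (quot R A G) hm).map (h ≫ m₂) := by
    apply Stk.EltObj.hom_ext
    change m₁.base ≫ φi.hom.hom = 𝟙 _ ≫ (h.base ≫ m₂.base)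
    have hee : φi.hom.hom = e := by rw [he, hφ]
    have key : ((d' ≫ s₁) ≫ ξ₁.π) ≫ e = s₂ ≫ ξ₂.π := by
      rw [hs₂]
      simp only [Category.assoc]
      rw [← Category.assoc s₁, hs₁]
      simp only [Category.assoc]
    have r1 : m₁.base ≫ φi.hom.hom = s₂ ≫ ξ₂.π := (congrArg₂ (· ≫ ·) hm₁ hee).trans key
    have r2 : h.base ≫ m₂.base = s₂ ≫ ξ₂.π :=
      (congrArg₂ (· ≫ ·) hb hm₂).trans (Category.id_comp _)
    exact r1.trans ((Category.id_comp _).trans r2).symm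
  exact Groth.Agent.H3.FPtRel.rel_of_hom
    (Groth.Agent.H3.FibCatAux.fpHomMk
      (X := (FibCat.diag (PiF (quot R A G) hm)).obj
        ((AlgSt.quotMap Scheme.fppfPrecoverage (GR R G) (gaction R A G)).obj (pt x₁)))
      (Y := ⟨⟨ξ₁, ξ₂, φi⟩, hlift⟩) m₁ (h ≫ m₂) w)

/-- **`[Spec A/G] ⟶ Spec A^G` is a universal homeomorphism** -/
theorem main_homeo (π : quotSt R A G Scheme.fppfPrecoverage ⥤ᵇ AlgSt.ofSch (specInv R A G))
    (hπ : BasedFunctor.comp
        (AlgSt.quotMap Scheme.fppfPrecoverage (GR R G) (gaction R A G)) π =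
      AlgSt.ofSpMap ((AlgSp.yon (Spec (CommRingCat.of R))).map (quot R A G))) :
    AlgSt.IsUnivHomeo Scheme.fppfPrecoverage π := by
  obtain ⟨hm, rfl⟩ := exists_hm R A G π hπ
  obtain ⟨h𝒳, hs⟩ := isAlgStack_quotSt R A G
  have hY : AlgSp.IsAlgSpace ((AlgSp.yon (Spec (CommRingCat.of R))).obj (specInv R A G)) :=
    AlgSp.IsAlgSpace.yon_obj _
  have hX : AlgSp.IsAlgSpace ((AlgSp.yon (Spec (CommRingCat.of R))).obj (X R A)) :=
    AlgSp.IsAlgSpace.yon_obj _
  have h𝒴 : AlgSt.IsAlgStack Scheme.fppfPrecoverage (AlgSt.ofSch (specInv R A G)) :=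
    Groth.Agent.H3.AlgStPoints.isAlgStack_ofSp ⟨_, hY⟩
  have h𝒰 : AlgSt.IsAlgStack Scheme.fppfPrecoverage (AlgSt.ofSch (X R A)) :=
    Groth.Agent.H3.AlgStPoints.isAlgStack_ofSp ⟨_, hX⟩
  have hsurjq : AlgSp.RepWith @Surjective
      ((AlgSp.yon (Spec (CommRingCat.of R))).map (quot R A G)) :=
    (AlgSp.repWith_yon_map_iff @Surjective (quot R A G)).2 (surjective_quot R A G)
  have huoq : AlgSp.RepWith @UniversallyOpen
      ((AlgSp.yon (Spec (CommRingCat.of R))).map (quot R A G)) :=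
    (AlgSp.repWith_yon_map_iff @UniversallyOpen (quot R A G)).2 (universallyOpen_quot R A G)
  have hρs : AlgSt.RepByAlgSpWith AlgSp.IsSurjectiveMor
      (AlgSt.ofSpMap ((AlgSp.yon (Spec (CommRingCat.of R))).map (quot R A G))) :=
    Groth.Agent.H3.RepBridge.repByAlgSpWith_ofPshMap_of_repBySpWith _ _
      (Groth.Agent.H3.AlgStBridge2.repBySpWith_of_baseChangeSp _
        Groth.Agent.H3.AlgStProps.good_isSurjectiveMor.bc hX hY _
        (Groth.Agent.H5.AlgSp.points_map_surjective_of_repWith hsurjq))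
  have hρo : AlgSt.RepByAlgSpWith
      (AlgSp.UnivSp (Groth.Agent.H3.AlgStPoints.QSp (fun _ _ _ _ f => IsOpenMap f)))
      (AlgSt.ofSpMap ((AlgSp.yon (Spec (CommRingCat.of R))).map (quot R A G))) :=
    Groth.Agent.H3.RepBridge.repByAlgSpWith_ofPshMap_of_repBySpWith _ _
      (Groth.Agent.H3.AlgStBridge2.repBySpWith_of_baseChangeSp _
        (Groth.Agent.H3.AlgStProps.baseChangeSp_of_bcStable
          (Groth.Agent.H3.AlgSpCov.bcStable_univSp _)) hX hY _
        ((Groth.Agent.H5.AlgSp.repWith_universallyOpen_iff huoq.1).1 huoq))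
  refine isUnivHomeo_of_atlas h𝒳 h𝒴 h𝒰 _
    (AlgSt.quotMap Scheme.fppfPrecoverage (GR R G) (gaction R A G)) hs ?_ ?_ ?_
  · rw [hπ]; exact hρo
  · rw [hπ]; exact hρs
  · exact (Groth.Agent.H3.FPtRel.isUnivInjective_iff_isSurjective_diag Scheme.fppfPrecoverage
      h𝒳 h𝒴.isStack.1 _).2 (diag_surj R A G hm)

end Groth.Agent.H3.CAQ
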